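import Groth.Agent.Lib.RDerLES.Basic

/-!
Horseshoe lemma; existence of the long exact sequence of right derived functors.
-/

set_option autoImplicit false

universe v u v' u'

open CategoryTheory CategoryTheory.Limits HomologicalComplex

namespace Groth.Agent.RDerLES

variable {C : Type u} [Category.{v} C] [Abelian C]

theorem exists_sesRes [HasInjectiveResolutions C] {S : ShortComplex C} (hS : S.ShortExact) :
    Nonempty (RDer.SESRes S) := by
  have := hS.mono_f
  have := hS.epi_g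
  let I₁ := injectiveResolution S.X₁
  let I₃ := injectiveResolution S.X₃
  have := fun n => I₁.injective n
  let i₁ : S.X₁ ⟶ I₁.cocomplex.X 0 := I₁.ι.f 0
  let i₃ : S.X₃ ⟶ I₃.cocomplex.X 0 := I₃.ι.f 0
  have : Mono i₃ := inferInstanceAs (Mono (I₃.ι.f 0))
  let d₁ : ∀ n, I₁.cocomplex.X n ⟶ I₁.cocomplex.X (n + 1) := fun n => I₁.cocomplex.d n (n + 1)
  let d₃ : ∀ n, I₃.cocomplex.X n ⟶ I₃.cocomplex.X (n + 1) := fun n => I₃.cocomplex.d n (n + 1)
  have hi₁ : i₁ ≫ d₁ 0 = 0 := I₁.ι_f_zero_comp_complex_d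
  have hi₃ : i₃ ≫ d₃ 0 = 0 := I₃.ι_f_zero_comp_complex_d
  let ε : S.X₂ ⟶ I₁.cocomplex.X 0 := Injective.factorThru i₁ S.f
  have hε : S.f ≫ ε = i₁ := Injective.comp_factorThru _ _
  have hw : S.f ≫ ε ≫ d₁ 0 = 0 := by rw [reassoc_of% hε, hi₁]
  let τ₀ : I₃.cocomplex.X 0 ⟶ I₁.cocomplex.X 1 :=
    Injective.factorThru (-(hS.exact.desc (ε ≫ d₁ 0) hw)) i₃
  have hτ₀ : ε ≫ d₁ 0 + S.g ≫ i₃ ≫ τ₀ = 0 := by
    rw [Injective.comp_factorThru, Preadditive.comp_neg, hS.exact.g_desc, add_neg_cancel]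
  let Inv : ∀ n, (I₃.cocomplex.X n ⟶ I₁.cocomplex.X (n + 1)) → Prop := fun n t =>
    ∃ u : I₃.cocomplex.X (n + 1) ⟶ I₁.cocomplex.X (n + 2), d₃ n ≫ u = -(t ≫ d₁ (n + 1))
  have h₀ : Inv 0 τ₀ := by
    have hk : i₃ ≫ τ₀ ≫ d₁ 1 = 0 := by
      rw [← cancel_epi S.g, comp_zero]
      have e : S.g ≫ i₃ ≫ τ₀ = -(ε ≫ d₁ 0) := eq_neg_of_add_eq_zero_right hτ₀
      rw [reassoc_of% e]
      simp [d₁]
    let K : ShortComplex C := ShortComplex.mk i₃ (d₃ 0) hi₃
    have hK : K.Exact := K.exact_of_f_is_kernel I₃.isLimitKernelFork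
    exact ⟨hK.descToInjective (-(τ₀ ≫ d₁ 1)) ((Preadditive.comp_neg _ _).trans
      (neg_eq_zero.2 hk)), hK.comp_descToInjective _ _⟩
  have hstep : ∀ n (t : {t // Inv n t}), ∃ t' : {t' // Inv (n + 1) t'}, d₃ n ≫ t'.1 = -(t.1 ≫ d₁ (n + 1)) := by
    rintro n ⟨t, u, hu⟩
    have hk : d₃ n ≫ (-(u ≫ d₁ (n + 2))) = 0 := by
      rw [Preadditive.comp_neg, reassoc_of% hu]
      simp [d₁]
    exact ⟨⟨u, (I₃.exact_succ n).descToInjective (-(u ≫ d₁ (n + 2))) hk,
      (I₃.exact_succ n).comp_descToInjective _ _⟩, hu⟩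
  choose next hnext using hstep
  let τ : ∀ n, {t : I₃.cocomplex.X n ⟶ I₁.cocomplex.X (n + 1) // Inv n t} := fun n =>
    Nat.rec ⟨τ₀, h₀⟩ next n
  have hτ : ∀ n, d₃ n ≫ (τ (n + 1)).1 = -((τ n).1 ≫ d₁ (n + 1)) := fun n => hnext n (τ n)
  let d : ∀ n, I₁.cocomplex.X n ⊞ I₃.cocomplex.X n ⟶ I₁.cocomplex.X (n + 1) ⊞ I₃.cocomplex.X (n + 1) :=
    fun n => biprod.desc (d₁ n ≫ biprod.inl) ((τ n).1 ≫ biprod.inl + d₃ n ≫ biprod.inr)
  let J : CochainComplex C ℕ := CochainComplex.of (fun n => I₁.cocomplex.X n ⊞ I₃.cocomplex.X n) d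
    (fun n => by
      apply biprod.hom_ext'
      · simp [d, d₁]
      · simp [d, d₃, d₁, hτ, reassoc_of% hτ])
  have hJd : ∀ n, J.d n (n + 1) = d n := fun n => CochainComplex.of_d (fun n => I₁.cocomplex.X n ⊞ I₃.cocomplex.X n) d n
  let e : S.X₂ ⟶ J.X 0 := biprod.lift ε (S.g ≫ i₃)
  have he : e ≫ J.d 0 1 = 0 := by
    rw [hJd]
    apply biprod.hom_ext
    · simp [e, d]
      exact hτ₀
    · simp [e, d, hi₃]
  let ι₂ : (CochainComplex.single₀ C).obj S.X₂ ⟶ J := (CochainComplex.fromSingle₀Equiv J S.X₂).symm ⟨e, he⟩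
  let f : I₁.cocomplex ⟶ J :=
    { f := fun n => biprod.inl
      comm' := by
        rintro i j (rfl : i + 1 = j)
        rw [hJd]; simp [d, d₁] }
  let g : J ⟶ I₃.cocomplex :=
    { f := fun n => biprod.snd
      comm' := by
        rintro i j (rfl : i + 1 = j)
        rw [hJd]; apply biprod.hom_ext' <;> simp [d, d₃] }
  have hfg : f ≫ g = 0 := by ext n; simp [f, g]
  have hex : (ShortComplex.mk f g hfg).ShortExact :=
    shortExact_of_degreewise_shortExact _ fun n =>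
      (ShortComplex.Splitting.mk (S := (ShortComplex.mk f g hfg).map (eval C _ n)) biprod.fst biprod.inr
        biprod.inl_fst biprod.inr_snd biprod.total).shortExact
  have hf : I₁.ι ≫ f = (CochainComplex.single₀ C).map S.f ≫ ι₂ := by
    refine HomologicalComplex.from_single_hom_ext ?_
    simp only [comp_f, CochainComplex.single₀_map_f_zero, ι₂, CochainComplex.fromSingle₀Equiv_symm_apply_f_zero]
    apply biprod.hom_ext
    · simp [f, e, hε, i₁]
    · simp [f, e, reassoc_of% S.zero]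
  have hg : ι₂ ≫ g = (CochainComplex.single₀ C).map S.g ≫ I₃.ι := by
    refine HomologicalComplex.from_single_hom_ext ?_
    simp only [comp_f, CochainComplex.single₀_map_f_zero, ι₂, CochainComplex.fromSingle₀Equiv_symm_apply_f_zero]
    simp [g, e, i₃]
  have hq : _root_.QuasiIso ι₂ :=
    quasiIso_τ₂ (ShortComplex.homMk (S₁ := S.map (CochainComplex.single₀ C))
      (S₂ := ShortComplex.mk f g hfg) I₁.ι ι₂ I₃.ι hf hg) (hS.map_of_exact _) hex I₁.quasiIso I₃.quasiIso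
  exact ⟨{ I₁ := I₁, I₃ := I₃
           I₂ := { cocomplex := J, injective := fun n => inferInstanceAs (Injective (I₁.cocomplex.X n ⊞ I₃.cocomplex.X n)),
                   ι := ι₂, quasiIso := hq }
           f := f, g := g, zero := hfg, ι_f := hf, ι_g := hg, shortExact := hex }⟩

variable [HasInjectiveResolutions C] {D : Type u'} [Category.{v'} D] [Abelian D] (F : C ⥤ D) [F.Additive]

theorem exact_sequences {S : ShortComplex C} (T : RDer.SESRes S) (n₀ n₁ : ℕ) (h : n₀ + 1 = n₁) :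
    (ShortComplex.mk ((F.rightDerived n₀).map S.f) ((F.rightDerived n₀).map S.g)
        (by rw [← Functor.map_comp, S.zero, Functor.map_zero])).Exact ∧
      (∃ w : (F.rightDerived n₀).map S.g ≫ T.delta F n₀ n₁ h = 0, (ShortComplex.mk _ _ w).Exact) ∧
      (∃ w : T.delta F n₀ n₁ h ≫ (F.rightDerived n₁).map S.f = 0, (ShortComplex.mk _ _ w).Exact) := by
  have hf := congr_arg (fun k => HomologicalComplex.Hom.f k 0) T.ι_f
  have hg := congr_arg (fun k => HomologicalComplex.Hom.f k 0) T.ι_g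
  simp only [HomologicalComplex.comp_f, CochainComplex.single₀_map_f_zero] at hf hg
  have Hf := fun n => InjectiveResolution.isoRightDerivedObj_hom_naturality S.f T.I₁ T.I₂ T.f hf F n
  have Hg := fun n => InjectiveResolution.isoRightDerivedObj_hom_naturality S.g T.I₂ T.I₃ T.g hg F n
  have Hδ := T.delta_comp_isoRightDerivedObj_hom F n₀ n₁ h
  have hM := T.map_shortExact F
  refine ⟨?_, ?_, ?_⟩
  · exact (ShortComplex.exact_iff_of_iso (ShortComplex.isoMk (T.I₁.isoRightDerivedObj F n₀)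
      (T.I₂.isoRightDerivedObj F n₀) (T.I₃.isoRightDerivedObj F n₀) (Hf n₀).symm (Hg n₀).symm)).2
      (hM.homology_exact₂ n₀)
  · have w : (F.rightDerived n₀).map S.g ≫ T.delta F n₀ n₁ h = 0 := by
      refine (cancel_mono (T.I₁.isoRightDerivedObj F n₁).hom).1 ?_
      refine ((Category.assoc _ _ _).trans ((congrArg (_ ≫ ·) (Hδ)).trans ((Category.assoc _ _ _).symm.trans
        ((congrArg (· ≫ _) (Hg n₀)).trans ((Category.assoc _ _ _).trans ?_))))).trans zero_comp.symm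
      exact (congrArg (_ ≫ ·) (hM.comp_δ n₀ n₁ h)).trans comp_zero
    exact ⟨w, (ShortComplex.exact_iff_of_iso (ShortComplex.isoMk (T.I₂.isoRightDerivedObj F n₀)
      (T.I₃.isoRightDerivedObj F n₀) (T.I₁.isoRightDerivedObj F n₁) (Hg n₀).symm Hδ.symm)).2
      (hM.homology_exact₃ n₀ n₁ h)⟩
  · have w : T.delta F n₀ n₁ h ≫ (F.rightDerived n₁).map S.f = 0 := by
      refine (cancel_mono (T.I₂.isoRightDerivedObj F n₁).hom).1 ?_
      refine ((Category.assoc _ _ _).trans ((congrArg (_ ≫ ·) (Hf n₁)).trans ((Category.assoc _ _ _).symm.trans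
        ((congrArg (· ≫ _) (Hδ)).trans ((Category.assoc _ _ _).trans ?_))))).trans zero_comp.symm
      exact (congrArg (_ ≫ ·) (hM.δ_comp n₀ n₁ h)).trans comp_zero
    exact ⟨w, (ShortComplex.exact_iff_of_iso (ShortComplex.isoMk (T.I₃.isoRightDerivedObj F n₀)
      (T.I₁.isoRightDerivedObj F n₁) (T.I₂.isoRightDerivedObj F n₁) Hδ.symm (Hf n₁).symm)).2
      (hM.homology_exact₁ n₀ n₁ h)⟩

theorem nonempty_derivedLES : Nonempty (RDer.DerivedLES F) := by
  let T : ∀ (S : ShortComplex C), S.ShortExact → RDer.SESRes S := fun S hS => (exists_sesRes hS).some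
  exact ⟨{ δ := fun S hS => (T S hS).delta F
           δ_eq := fun S hS T' n₀ n₁ h => delta_eq F _ T' n₀ n₁ h
           δ_natural := fun hS hS' φ n₀ n₁ h => delta_natural F _ _ φ n₀ n₁ h
           exact₂ := fun S hS n => (exact_sequences F (T S hS) n (n + 1) rfl).1
           comp_δ := fun S hS n₀ n₁ h => (exact_sequences F (T S hS) n₀ n₁ h).2.1.1
           exact₃ := fun S hS n₀ n₁ h => (exact_sequences F (T S hS) n₀ n₁ h).2.1.2
           δ_comp := fun S hS n₀ n₁ h => (exact_sequences F (T S hS) n₀ n₁ h).2.2.1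
           exact₁ := fun S hS n₀ n₁ h => (exact_sequences F (T S hS) n₀ n₁ h).2.2.2 }⟩

end Groth.Agent.RDerLES
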