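import Groth.Prelude.Def_RDerDelta
import Groth.Agent.Lib.KInj.Basic
import Mathlib.Algebra.Homology.HomologySequenceLemmas
import Mathlib.Algebra.Homology.Embedding.ExtendHomology
import Mathlib.Algebra.Homology.HomotopyCategory.KInjective
import Mathlib.CategoryTheory.Abelian.Injective.Resolution
import Mathlib.CategoryTheory.Limits.Shapes.Pullback.HasPullback

/-!
Horseshoe lemma and uniqueness of connecting morphisms of right derived functors.
-/

set_option autoImplicit false

universe v u v' u'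

open CategoryTheory CategoryTheory.Limits HomologicalComplex

namespace Groth.Agent.RDerLES

variable {C : Type u} [Category.{v} C] [Abelian C]

theorem quasiIso_τ₂ {ι : Type*} {c : ComplexShape ι} {S₁ S₂ : ShortComplex (HomologicalComplex C c)}
    (φ : S₁ ⟶ S₂) (hS₁ : S₁.ShortExact) (hS₂ : S₂.ShortExact) (h₁ : _root_.QuasiIso φ.τ₁)
    (h₃ : _root_.QuasiIso φ.τ₃) : _root_.QuasiIso φ.τ₂ := by
  rw [quasiIso_iff]
  intro i
  rw [quasiIsoAt_iff_isIso_homologyMap]
  have hm : Mono (homologyMap φ.τ₂ i) := by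
    by_cases hk : ∃ k, c.Rel k i
    · obtain ⟨k, hk⟩ := hk
      apply Abelian.mono_of_epi_of_mono_of_mono
        ((ComposableArrows.δ₀Functor ⋙ ComposableArrows.δ₀Functor).map
          (HomologySequence.mapComposableArrows₅ φ hS₁ hS₂ k i hk))
      · exact (HomologySequence.composableArrows₅_exact hS₁ k i hk).δ₀.δ₀
      · exact (HomologySequence.composableArrows₅_exact hS₂ k i hk).δ₀.δ₀
      · exact (inferInstance : Epi (homologyMap φ.τ₃ k))
      · exact (inferInstance : Mono (homologyMap φ.τ₁ i))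
      · exact (inferInstance : Mono (homologyMap φ.τ₃ i))
    · have := hS₂.mono_f
      refine Abelian.mono_of_mono_of_mono_of_mono (HomologySequence.mapComposableArrows₂ φ i)
        (HomologySequence.composableArrows₂_exact hS₁ i) ?_ ?_ ?_
      · exact HomologicalComplex.mono_homologyMap_of_mono_of_not_rel S₂.f i (by simpa using hk)
      · exact (inferInstance : Mono (homologyMap φ.τ₁ i))
      · exact (inferInstance : Mono (homologyMap φ.τ₃ i))
  have he : Epi (homologyMap φ.τ₂ i) := by
    by_cases hk : ∃ k, c.Rel i k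
    · obtain ⟨k, hk⟩ := hk
      apply Abelian.epi_of_epi_of_epi_of_mono
        ((ComposableArrows.δlastFunctor ⋙ ComposableArrows.δlastFunctor).map
          (HomologySequence.mapComposableArrows₅ φ hS₁ hS₂ i k hk))
      · exact (HomologySequence.composableArrows₅_exact hS₁ i k hk).δlast.δlast
      · exact (HomologySequence.composableArrows₅_exact hS₂ i k hk).δlast.δlast
      · exact (inferInstance : Epi (homologyMap φ.τ₁ i))
      · exact (inferInstance : Epi (homologyMap φ.τ₃ i))
      · exact (inferInstance : Mono (homologyMap φ.τ₁ k))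
    · have := hS₁.epi_g
      refine Abelian.epi_of_epi_of_epi_of_epi (HomologySequence.mapComposableArrows₂ φ i)
        (HomologySequence.composableArrows₂_exact hS₂ i) ?_ ?_ ?_
      · exact HomologicalComplex.epi_homologyMap_of_epi_of_not_rel S₁.g i (by simpa using hk)
      · exact (inferInstance : Epi (homologyMap φ.τ₁ i))
      · exact (inferInstance : Epi (homologyMap φ.τ₃ i))
  exact isIso_of_mono_of_epi _

theorem extend_lift {P Q I : CochainComplex C ℕ} (i : P ⟶ Q) [Mono i] [_root_.QuasiIso i]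
    (hI : ∀ n, Injective (I.X n)) (t : P ⟶ I) : ∃ s : Q ⟶ I, i ≫ s = t := by
  let E := ComplexShape.embeddingUpNat.extendFunctor C
  have hm : Mono (E.map i) := HomologicalComplex.mono_of_mono_f _ fun n => by
    by_cases h : ∃ k, ComplexShape.embeddingUpNat.f k = n
    · obtain ⟨k, hk⟩ := h
      have : Mono (i.f k) := inferInstanceAs (Mono ((HomologicalComplex.eval C _ k).map i))
      change Mono ((extendMap i _).f n)
      rw [extendMap_f _ _ hk]
      infer_instance
    · exact ⟨fun _ _ _ => (P.isZero_extend_X _ n (fun k hk => h ⟨k, hk⟩)).eq_of_tgt _ _⟩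
  have hq : _root_.QuasiIso (E.map i) := (quasiIso_extendMap_iff i _).2 ‹_›
  have hac : (cokernel (E.map i)).Acyclic := fun n => by
    refine ShortComplex.ShortExact.exactAt_X₃ (S := ShortComplex.mk _ _ (cokernel.condition (E.map i)))
      { exact := ShortComplex.exact_cokernel _ } n ?_ ?_
    · exact (inferInstance : Epi (homologyMap (E.map i) n))
    · exact fun j _ => (inferInstance : Mono (homologyMap (E.map i) j))
  obtain ⟨s, hs⟩ := KInjLib.extends_of_isKInjective (I.extend ComplexShape.embeddingUpNat)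
    (fun n => inferInstance) (E.map i) hac (E.map t)
  exact ⟨E.preimage s,
    E.map_injective ((E.map_comp _ _).trans ((congrArg _ (E.map_preimage s)).trans hs))⟩

variable {S S' : ShortComplex C}

theorem exists_hom (T : RDer.SESRes S) (T' : RDer.SESRes S') (φ : S ⟶ S') :
    ∃ ψ : T.cx ⟶ T'.cx,
      T.I₁.ι ≫ ψ.τ₁ = (CochainComplex.single₀ C).map φ.τ₁ ≫ T'.I₁.ι ∧
      T.I₃.ι ≫ ψ.τ₃ = (CochainComplex.single₀ C).map φ.τ₃ ≫ T'.I₃.ι := by
  have := T.shortExact.mono_f
  have := T.shortExact.epi_g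
  let sS : ShortComplex (CochainComplex C ℕ) := S.map (CochainComplex.single₀ C)
  let a := InjectiveResolution.desc φ.τ₁ T'.I₁ T.I₁
  have ha : T.I₁.ι ≫ a = (CochainComplex.single₀ C).map φ.τ₁ ≫ T'.I₁.ι :=
    InjectiveResolution.desc_commutes _ _ _
  have hsS : sS.ShortExact := by
    have hm : Mono S.f := by
      have h0 : Mono (T.I₁.ι.f 0 ≫ T.f.f 0) :=
        @mono_comp _ _ _ _ _ _ inferInstance _
          (inferInstanceAs (Mono ((HomologicalComplex.eval C _ 0).map T.f)))
      have e := congr_arg (fun k => HomologicalComplex.Hom.f k 0) T.ι_f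
      simp only [HomologicalComplex.comp_f, CochainComplex.single₀_map_f_zero] at e
      rw [e] at h0
      exact @mono_of_mono _ _ _ _ _ S.f (T.I₂.ι.f 0) h0
    have hmap : Mono ((CochainComplex.single₀ C).map S.f) := inferInstanceAs (Mono ((CochainComplex.single₀ C).map S.f))
    have hS3 : S.ShortExact := shortExact_of_res T hm
    exact hS3.map_of_exact _
  have hsf : Mono ((CochainComplex.single₀ C).map S.f) := hsS.mono_f
  let gP : pushout T.I₁.ι ((CochainComplex.single₀ C).map S.f) ⟶ ((CochainComplex.single₀ C).obj S.X₃) := pushout.desc 0 ((CochainComplex.single₀ C).map S.g) (by rw [comp_zero, ← Functor.map_comp, S.zero, Functor.map_zero])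
  let PS : ShortComplex (CochainComplex C ℕ) :=
    ShortComplex.mk (pushout.inl T.I₁.ι ((CochainComplex.single₀ C).map S.f)) gP (pushout.inl_desc _ _ _)
  have hPS : PS.ShortExact := shortExact_pushout hsS T.I₁.ι
  let j : pushout T.I₁.ι ((CochainComplex.single₀ C).map S.f) ⟶ T.I₂.cocomplex := pushout.desc T.f T.I₂.ι T.ι_f
  let θ : PS ⟶ T.cx := ShortComplex.homMk (𝟙 _) j T.I₃.ι ((Category.id_comp _).trans (pushout.inl_desc _ _ _).symm) (pushout.hom_ext
    (by
      dsimp [PS, gP, j]
      erw [pushout.inl_desc_assoc, pushout.inl_desc_assoc, zero_comp]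
      exact T.zero)
    (by
      dsimp [PS, gP, j]
      erw [pushout.inr_desc_assoc, pushout.inr_desc_assoc]
      exact T.ι_g))
  let θ' : sS ⟶ PS := ShortComplex.homMk T.I₁.ι (pushout.inr T.I₁.ι ((CochainComplex.single₀ C).map S.f)) (𝟙 _) pushout.condition
    ((pushout.inr_desc _ _ _).trans (Category.comp_id _).symm)
  have hq' : _root_.QuasiIso (pushout.inr T.I₁.ι ((CochainComplex.single₀ C).map S.f)) :=
    quasiIso_τ₂ θ' hsS hPS T.I₁.quasiIso (inferInstanceAs (_root_.QuasiIso (𝟙 _)))
  have hq : _root_.QuasiIso j := by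
    have : _root_.QuasiIso (pushout.inr T.I₁.ι ((CochainComplex.single₀ C).map S.f) ≫ j) := by
      rw [pushout.inr_desc]; exact T.I₂.quasiIso
    exact quasiIso_of_comp_left (pushout.inr T.I₁.ι ((CochainComplex.single₀ C).map S.f)) j
  have hι₃ : Mono T.I₃.ι := HomologicalComplex.mono_of_mono_f _ fun n => inferInstance
  have hjm : Mono j := ShortComplex.mono_of_mono_of_mono_of_mono θ hPS.exact T.shortExact.mono_f
    (inferInstanceAs (Mono (𝟙 _))) hι₃
  obtain ⟨b, hb⟩ := extend_lift j (I := T'.I₂.cocomplex) T'.I₂.injective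
    (pushout.desc (a ≫ T'.f) ((CochainComplex.single₀ C).map φ.τ₂ ≫ T'.I₂.ι) (by
      rw [reassoc_of% ha, T'.ι_f, ← Functor.map_comp_assoc, φ.comm₁₂, Functor.map_comp_assoc]))
  have hb₁ : T.f ≫ b = a ≫ T'.f := by
    have := congrArg (pushout.inl T.I₁.ι ((CochainComplex.single₀ C).map S.f) ≫ ·) hb
    dsimp [j] at this
    erw [pushout.inl_desc_assoc, pushout.inl_desc] at this
    exact this
  have hb₂ : T.I₂.ι ≫ b = (CochainComplex.single₀ C).map φ.τ₂ ≫ T'.I₂.ι := by
    have := congrArg (pushout.inr T.I₁.ι ((CochainComplex.single₀ C).map S.f) ≫ ·) hb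
    dsimp [j] at this
    erw [pushout.inr_desc_assoc, pushout.inr_desc] at this
    exact this
  have hz : T.f ≫ b ≫ T'.g = 0 := by rw [reassoc_of% hb₁, T'.zero, comp_zero]
  refine ⟨ShortComplex.homMk a b (T.shortExact.exact.desc (b ≫ T'.g) hz) hb₁.symm
    (T.shortExact.exact.g_desc _ _).symm, ha, ?_⟩
  have : Epi ((CochainComplex.single₀ C).map S.g) := hsS.epi_g
  rw [← cancel_epi ((CochainComplex.single₀ C).map S.g), ← reassoc_of% T.ι_g]
  have e := T.shortExact.exact.g_desc (b ≫ T'.g) hz
  refine (congrArg (T.I₂.ι ≫ ·) e).trans ?_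
  rw [reassoc_of% hb₂, T'.ι_g, ← Functor.map_comp_assoc, φ.comm₂₃, Functor.map_comp_assoc]
where
  shortExact_pushout {sS : ShortComplex (CochainComplex C ℕ)} (hS : sS.ShortExact)
      {I : CochainComplex C ℕ} (j : sS.X₁ ⟶ I) :
      (ShortComplex.mk (pushout.inl j sS.f) (pushout.desc 0 sS.g (by rw [comp_zero, sS.zero]))
        (pushout.inl_desc _ _ _)).ShortExact := by
    have := hS.mono_f
    have := hS.epi_g
    let h : pushout j sS.f ⟶ sS.X₃ := pushout.desc 0 sS.g (by rw [comp_zero, sS.zero])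
    have hinr : pushout.inr j sS.f ≫ h = sS.g := pushout.inr_desc _ _ _
    have hinl : pushout.inl j sS.f ≫ h = 0 := pushout.inl_desc _ _ _
    have : Epi h := epi_of_epi_fac hinr
    refine { exact := ?_, mono_f := inferInstance, epi_g := this }
    refine (ShortComplex.mk (pushout.inl j sS.f) h hinl).exact_of_g_is_cokernel
      (CokernelCofork.IsColimit.ofπ' _ _ fun {W} k hk => ?_)
    have hk' : sS.f ≫ pushout.inr j sS.f ≫ k = 0 := by
      rw [← pushout.condition_assoc]
      exact (congrArg (j ≫ ·) hk).trans comp_zero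
    refine ⟨hS.exact.desc _ hk', ?_⟩
    apply pushout.hom_ext
    · change pushout.inl j sS.f ≫ h ≫ _ = pushout.inl j sS.f ≫ k
      rw [reassoc_of% hinl, zero_comp]
      exact hk.symm
    · change pushout.inr j sS.f ≫ h ≫ _ = pushout.inr j sS.f ≫ k
      rw [reassoc_of% hinr, hS.exact.g_desc]
  shortExact_of_res (T : RDer.SESRes S) (hm : Mono S.f) : S.ShortExact := by
    let F := HomologicalComplex.homologyFunctor C (ComplexShape.up ℕ) 0
    let e : S.map (CochainComplex.single₀ C ⋙ F) ≅ S :=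
      S.mapNatIso (HomologicalComplex.homologyFunctorSingleIso C (ComplexShape.up ℕ) 0) ≪≫ Iso.refl _
    let θ : (S.map (CochainComplex.single₀ C)).map F ⟶ T.cx.map F :=
      F.mapShortComplex.map (ShortComplex.homMk T.I₁.ι T.I₂.ι T.I₃.ι T.ι_f T.ι_g)
    haveI : IsIso θ := by
      haveI : IsIso θ.τ₁ := inferInstanceAs (IsIso (homologyMap T.I₁.ι 0))
      haveI : IsIso θ.τ₂ := inferInstanceAs (IsIso (homologyMap T.I₂.ι 0))
      haveI : IsIso θ.τ₃ := inferInstanceAs (IsIso (homologyMap T.I₃.ι 0))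
      exact ShortComplex.isIso_of_isIso _
    have h2 : (T.cx.map F).Exact := T.shortExact.homology_exact₂ 0
    have h : S.Exact :=
      (ShortComplex.exact_iff_of_iso (asIso θ).symm).1 h2 |> (ShortComplex.exact_iff_of_iso e).1
    have he : Epi S.g := by
      have hz : IsZero (T.I₁.cocomplex.homology 1) :=
        (exactAt_iff_isZero_homology _ 1).1 (T.I₁.cocomplex_exactAt_succ 0)
      have h3 : Epi (homologyMap T.g 0) :=
        (T.shortExact.homology_exact₃ 0 1 rfl).epi_f (hz.eq_of_tgt _ _)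
      have : Epi (θ.τ₂ ≫ (T.cx.map F).g) := @epi_comp _ _ _ _ _ _ inferInstance _ h3
      rw [θ.comm₂₃] at this
      have h4 : Epi ((S.map (CochainComplex.single₀ C)).map F).g := by
        have := @epi_comp _ _ _ _ _ _ this (inv θ.τ₃) inferInstance
        simpa using this
      have : IsIso e.hom.τ₃ := inferInstanceAs (IsIso (ShortComplex.π₃.map e.hom))
      have : Epi (e.hom.τ₂ ≫ S.g) := by
        rw [e.hom.comm₂₃]; exact @epi_comp _ _ _ _ _ _ h4 _ (@IsIso.epi_of_iso _ _ _ _ _ ‹IsIso e.hom.τ₃›)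
      exact epi_of_epi e.hom.τ₂ S.g
    exact { exact := h }

variable [HasInjectiveResolutions C] {D : Type u'} [Category.{v'} D] [Abelian D] (F : C ⥤ D) [F.Additive]

theorem delta_natural (T : RDer.SESRes S) (T' : RDer.SESRes S') (φ : S ⟶ S') (n₀ n₁ : ℕ)
    (h : n₀ + 1 = n₁) :
    (F.rightDerived n₀).map φ.τ₃ ≫ T'.delta F n₀ n₁ h =
      T.delta F n₀ n₁ h ≫ (F.rightDerived n₁).map φ.τ₁ := by
  obtain ⟨ψ, h₁, h₃⟩ := exists_hom T T' φ
  have e₁ := congr_arg (fun k => HomologicalComplex.Hom.f k 0) h₁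
  have e₃ := congr_arg (fun k => HomologicalComplex.Hom.f k 0) h₃
  simp only [HomologicalComplex.comp_f, CochainComplex.single₀_map_f_zero] at e₁ e₃
  have hδ := HomologicalComplex.HomologySequence.δ_naturality
    ((F.mapHomologicalComplex (ComplexShape.up ℕ)).mapShortComplex.map ψ) (T.map_shortExact F)
    (T'.map_shortExact F) n₀ n₁ h
  rw [← cancel_mono (T'.I₁.isoRightDerivedObj F n₁).hom, Category.assoc, Category.assoc,
    RDer.SESRes.delta_comp_isoRightDerivedObj_hom,
    InjectiveResolution.isoRightDerivedObj_hom_naturality φ.τ₁ T.I₁ T'.I₁ ψ.τ₁ e₁ F n₁,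
    RDer.SESRes.delta_comp_isoRightDerivedObj_hom_assoc]
  refine ((Category.assoc _ _ _).symm.trans (congrArg (· ≫ (T'.map_shortExact F).δ n₀ n₁ h)
    (InjectiveResolution.isoRightDerivedObj_hom_naturality φ.τ₃ T.I₃ T'.I₃ ψ.τ₃ e₃ F n₀))).trans ?_
  refine (Category.assoc _ _ _).trans ?_
  exact Eq.trans (congrArg ((T.I₃.isoRightDerivedObj F n₀).hom ≫ ·) hδ.symm) (Category.assoc _ _ _).symm

theorem delta_eq (T T' : RDer.SESRes S) (n₀ n₁ : ℕ) (h : n₀ + 1 = n₁) :
    T.delta F n₀ n₁ h = T'.delta F n₀ n₁ h := by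
  have := delta_natural F T T' (𝟙 S) n₀ n₁ h
  simpa using this.symm

end Groth.Agent.RDerLES
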